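import Groth.Agent.S3023
import Groth.Agent.S0355
import Groth.Prelude.Def_AlgGrp
import Mathlib.AlgebraicGeometry.Morphisms.FlatMono

/-!
# Commutators land in the neutral component; the neutral component of a group scheme lft over a field
-/

set_option autoImplicit false
universe u
open CategoryTheory MonoidalCategory CartesianMonoidalCategory MonObj GrpObj AlgebraicGeometry Limits

namespace K206.Comm

variable {k : Type u} [Field k]

/-- If `A` is connected with unit section `η` and `c : A ⊗ B ⟶ Γ` is constant on `{1} × B`, then
`c` takes values in the connected component of this constant. -/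
theorem mem_component {A B Γ : Over (Spec (CommRingCat.of k))} [GrpObj A]
    [ConnectedSpace A.left] (c : A ⊗ B ⟶ Γ) (e : 𝟙_ (Over (Spec (CommRingCat.of k))) ⟶ Γ)
    (hc : lift (toUnit B ≫ η[A]) (𝟙 B) ≫ c = toUnit B ≫ e)
    (pt : ↥(𝟙_ (Over (Spec (CommRingCat.of k)))).left) (z : (A ⊗ B : Over _).left) :
    c.left z ∈ connectedComponent (e.left pt) := by
  have h1 : GeometricallyConnected A.hom :=
    Groth.Agent.S3023.geometricallyConnected_of_point A.hom η[A].left (Over.w η[A])
  have h2 : GeometricallyConnected (snd A B).left :=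
    inferInstanceAs (GeometricallyConnected (pullback.snd A.hom B.hom))
  set b := (snd A B).left z with hb
  have h3 := (snd A B).left.isConnected_preimage_singleton b
  have h4 := h3.isPreconnected.image c.left c.left.continuous.continuousOn
  have h5 : e.left pt ∈ c.left '' ((snd A B).left ⁻¹' {b}) := by
    refine ⟨(lift (toUnit B ≫ η[A]) (𝟙 B)).left b, ?_, ?_⟩
    · change ((lift (toUnit B ≫ η[A]) (𝟙 B)).left ≫ (snd A B).left) b = b
      rw [← Over.comp_left, lift_snd]
      rfl
    · change ((lift (toUnit B ≫ η[A]) (𝟙 B)).left ≫ c.left) b = _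
      rw [← Over.comp_left, hc, Over.comp_left]
      change e.left ((toUnit B).left b) = _
      congr 1
      exact Subsingleton.elim (α := ↥(Spec (CommRingCat.of k))) _ _
  exact h4.subset_connectedComponent h5 ⟨z, rfl, rfl⟩

/-- The neutral component of a group scheme locally of finite type over a field, as an open and
closed subgroup scheme. -/
theorem exists_neutral (G : Over (Spec (CommRingCat.of k))) [GrpObj G]
    [LocallyOfFiniteType G.hom] :
    ∃ (G0 : Over (Spec (CommRingCat.of k))) (_ : GrpObj G0) (i : G0 ⟶ G), IsMonHom i ∧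
      IsClosedImmersion i.left ∧ IsOpenImmersion i.left ∧ ConnectedSpace G0.left ∧
      QuasiCompact G0.hom ∧
      (∀ pt : ↥(𝟙_ (Over (Spec (CommRingCat.of k)))).left,
        Set.range i.left = connectedComponent (η[G].left pt)) := by
  obtain ⟨G0, h0, i, hi1, hi2, hi3, hi4⟩ := Groth.Agent.S3023.result k G
  have hG : IsLocallyNoetherian G.left := LocallyOfFiniteType.isLocallyNoetherian G.hom
  have hi5 : LocallyOfFinitePresentation i.left :=
    LocallyOfFinitePresentation.iff_locallyOfFiniteType.mpr inferInstance
  have hi6 : IsOpenImmersion i.left := IsOpenImmersion.of_flat_of_mono i.left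
  let pt : ↥(𝟙_ (Over (Spec (CommRingCat.of k)))).left := IsLocalRing.closedPoint k
  have hr := hi4 pt
  have hc : IsCompact (Set.range i.left) := by
    rw [show Set.range i.left = _ from hr]
    exact (Groth.Agent.S0355.result k G).2
  have e : G0.left ≃ₜ Set.range i.left := i.left.isEmbedding.toHomeomorph
  have h7 : CompactSpace G0.left := by
    have := isCompact_iff_compactSpace.mp hc
    exact e.symm.compactSpace
  refine ⟨G0, h0, i, hi1, hi2, hi6, ?_, (quasiCompact_iff_compactSpace G0.hom).mpr h7, hi4⟩
  rw [connectedSpace_iff_univ]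
  refine ⟨⟨η[G0].left pt, trivial⟩, ?_⟩
  rw [← i.left.isEmbedding.isInducing.isPreconnected_image, Set.image_univ,
    show Set.range i.left = _ from hr]
  exact isPreconnected_connectedComponent

/-- Factorisation through an open subobject. -/
theorem exists_lift_of_open {S : Scheme.{u}} {U X T : Over S} (i : U ⟶ X) [IsOpenImmersion i.left]
    (f : T ⟶ X) (h : Set.range f.left ⊆ Set.range i.left) : ∃ g : T ⟶ U, g ≫ i = f := by
  refine ⟨Over.homMk (IsOpenImmersion.lift i.left f.left h) ?_, ?_⟩
  · rw [← Over.w i, IsOpenImmersion.lift_fac_assoc, Over.w f]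
  · ext1
    exact IsOpenImmersion.lift_fac _ _ _

end K206.Comm
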