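import Groth.Agent.Sga3B.FpqcLoc
import Mathlib.AlgebraicGeometry.Sites.Fpqc
import Mathlib.AlgebraicGeometry.Morphisms.FlatDescent

/-!
# Single morphisms covering for the fpqc topology

`IsFpqc q`: `q` is flat, surjective and every affine open of the target is the image of a
quasi-compact open of the source.  `IsCov p`: some `IsFpqc` morphism factors through `p`.
Stability properties, descent of morphisms and of properties of morphisms.
-/

set_option autoImplicit false
open CategoryTheory CategoryTheory.Limits AlgebraicGeometry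
universe u

namespace K206.Fpqc

variable {X Y Z T X' Y' : Scheme.{u}}

/-- `q` is flat, surjective and every affine open of `Y` is the image of a quasi-compact open. -/
structure IsFpqc (q : Z ⟶ Y) : Prop where
  flat : Flat q
  surj : Surjective q
  qc : ∀ V : Y.Opens, IsAffineOpen V →
    ∃ W : Z.Opens, IsCompact (W : Set Z) ∧ q.base '' (W : Set Z) = (V : Set Y)

theorem isFpqc_iff_singleton_mem {q : Z ⟶ Y} :
    IsFpqc q ↔ Presieve.singleton q ∈ Scheme.fpqcPrecoverage Y := by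
  have key : Presieve.singleton q ∈ Scheme.qcPrecoverage Y ↔
      ∀ V : Y.Opens, IsAffineOpen V →
        ∃ W : Z.Opens, IsCompact (W : Set Z) ∧ q.base '' (W : Set Z) = (V : Set Y) := by
    rw [← PreZeroHypercover.presieve₀_singleton.{u, u + 1, 0},
      Scheme.presieve₀_mem_qcPrecoverage_iff, quasiCompactCover_iff]
    refine forall_congr' fun V => forall_congr' fun hV => ?_
    exact IsCompactOpenCovered.iff_of_unique
  constructor
  · intro h
    have := h.flat
    have := h.surj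
    refine ⟨key.mpr h.qc, ?_⟩
    exact (Scheme.singleton_mem_precoverage_iff _ q).mpr ⟨h.surj.surj, h.flat⟩
  · rintro ⟨h1, h2⟩
    have h3 := (Scheme.singleton_mem_precoverage_iff _ q).mp h2
    exact ⟨h3.2, ⟨h3.1⟩, key.mp h1⟩

/-- a flat surjective quasi-compact morphism is an fpqc covering -/
theorem IsFpqc.of_quasiCompact (q : Z ⟶ Y) [Flat q] [Surjective q] [QuasiCompact q] : IsFpqc q :=
  isFpqc_iff_singleton_mem.mpr q.singleton_mem_fpqcPrecoverage

/-- a flat surjective morphism locally of finite presentation is an fpqc covering -/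
theorem IsFpqc.of_lfp (q : Z ⟶ Y) [Flat q] [Surjective q] [LocallyOfFinitePresentation q] :
    IsFpqc q :=
  isFpqc_iff_singleton_mem.mpr (Scheme.fppfPrecoverage_le_fpqcPrecoverage _ q.singleton_mem_fppfPrecoverage)

theorem IsFpqc.id (Y : Scheme.{u}) : IsFpqc (𝟙 Y) := IsFpqc.of_quasiCompact _

theorem IsFpqc.exists_compact_lift {q : Z ⟶ Y} (h : IsFpqc q) (V : Y.Opens)
    (hV : IsCompact (V : Set Y)) :
    ∃ W : Z.Opens, IsCompact (W : Set Z) ∧ q.base '' (W : Set Z) = (V : Set Y) := by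
  have h1 := (isFpqc_iff_singleton_mem.mp h).1
  rw [← PreZeroHypercover.presieve₀_singleton.{u, u + 1, 0},
    Scheme.presieve₀_mem_qcPrecoverage_iff] at h1
  exact IsCompactOpenCovered.iff_of_unique.mp
    (QuasiCompactCover.isCompactOpenCovered_of_isCompact
      (PreZeroHypercover.singleton.{0, u, u + 1} q) hV)

theorem IsFpqc.comp {p : T ⟶ Z} {q : Z ⟶ Y} (hp : IsFpqc p) (hq : IsFpqc q) : IsFpqc (p ≫ q) := by
  have := hp.flat; have := hq.flat; have := hp.surj; have := hq.surj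
  refine ⟨inferInstance, inferInstance, fun V hV => ?_⟩
  obtain ⟨W, hW, hWV⟩ := hq.qc V hV
  obtain ⟨W', hW', hWV'⟩ := hp.exists_compact_lift W hW
  refine ⟨W', hW', ?_⟩
  rw [← hWV, ← hWV', Set.image_image]
  rfl

theorem IsFpqc.of_isPullback {a : X' ⟶ X} {p : X' ⟶ Y'} {q : X ⟶ Y} {b : Y' ⟶ Y}
    (h : IsPullback a p q b) (hq : IsFpqc q) : IsFpqc p := by
  rw [isFpqc_iff_singleton_mem, ← Presieve.ofArrows_pUnit.{0}] at hq ⊢
  exact Precoverage.mem_coverings_of_isPullback _ hq b _ (fun _ => a) fun _ => h.flip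

theorem IsFpqc.pullback_fst {q : Z ⟶ Y} (hq : IsFpqc q) (g : X ⟶ Y) : IsFpqc (pullback.fst g q) :=
  .of_isPullback (IsPullback.of_hasPullback g q).flip hq

theorem IsFpqc.pullback_snd {q : Z ⟶ Y} (hq : IsFpqc q) (g : X ⟶ Y) : IsFpqc (pullback.snd q g) :=
  .of_isPullback (IsPullback.of_hasPullback q g) hq

theorem IsFpqc.effectiveEpi {q : Z ⟶ Y} (hq : IsFpqc q) : EffectiveEpi q := by
  rw [← Sieve.effectiveEpimorphic_singleton,
    Presieve.EffectiveEpimorphic.iff_forall_isSheafFor_yoneda]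
  intro Z
  exact (GrothendieckTopology.Subcanonical.isSheaf_of_isRepresentable _).isSheafFor _
    (Precoverage.generate_mem_toGrothendieck (isFpqc_iff_singleton_mem.mp hq))

theorem IsFpqc.epi {q : Z ⟶ Y} (hq : IsFpqc q) : Epi q := by
  have := hq.effectiveEpi
  infer_instance

theorem IsFpqc.exists_desc {q : Z ⟶ Y} (hq : IsFpqc q) (g : Z ⟶ T)
    (h : pullback.fst q q ≫ g = pullback.snd q q ≫ g) : ∃ g' : Y ⟶ T, q ≫ g' = g := by
  have := hq.effectiveEpi
  have h' : ∀ {W : Scheme.{u}} (a b : W ⟶ Z), a ≫ q = b ≫ q → a ≫ g = b ≫ g := by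
    intro W a b hab
    have := congrArg (pullback.lift a b hab ≫ ·) h
    simpa only [pullback.lift_fst_assoc, pullback.lift_snd_assoc] using this
  exact ⟨EffectiveEpi.desc q g h', EffectiveEpi.fac q g h'⟩

/-- descent of properties along `IsFpqc` morphisms -/
theorem IsFpqc.descends {P : MorphismProperty Scheme.{u}} [IsZariskiLocalAtTarget P]
    [P.IsStableUnderBaseChange] [P.DescendsAlong (@Surjective ⊓ @Flat ⊓ @QuasiCompact)]
    {q : Z ⟶ Y} (hq : IsFpqc q) (g : X ⟶ Y) (h : P (pullback.snd g q)) : P g := by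
  have := hq.flat
  refine Groth.Agent.Sga3B.FpqcLoc.of_fpqc_cover g q hq.qc fun s' => ⟨⊤, trivial, ?_⟩
  have h3 : IsPullback (pullback.fst (pullback.snd g q) (⊤ : Z.Opens).ι ≫ pullback.fst g q)
    (pullback.snd (pullback.snd g q) (⊤ : Z.Opens).ι) g ((⊤ : Z.Opens).ι ≫ q) :=
    (IsPullback.of_hasPullback (pullback.snd g q) (⊤ : Z.Opens).ι).paste_horiz
      (IsPullback.of_hasPullback g q)
  exact Groth.Agent.Sga3B.FpqcLoc.of_isPullback' (IsPullback.of_hasPullback g _) h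

theorem IsFpqc.descends_of_isPullback {P : MorphismProperty Scheme.{u}} [IsZariskiLocalAtTarget P]
    [P.IsStableUnderBaseChange] [P.DescendsAlong (@Surjective ⊓ @Flat ⊓ @QuasiCompact)]
    {a : X' ⟶ X} {p : X' ⟶ Y'} {g : X ⟶ Y} {q : Y' ⟶ Y}
    (h : IsPullback a p g q) (hq : IsFpqc q) (hp : P p) : P g := by
  refine hq.descends g ?_
  exact (P.arrow_mk_iso_iff (Arrow.isoMk (h.isoPullback) (Iso.refl _)
    ((h.isoPullback_hom_snd).trans (Category.comp_id _).symm))).mp hp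

/-- `p` is covering for the fpqc topology: some `IsFpqc` morphism factors through `p`. -/
def IsCov (p : X ⟶ Y) : Prop :=
  ∃ (Z : Scheme.{u}) (q : Z ⟶ Y) (r : Z ⟶ X), r ≫ p = q ∧ IsFpqc q

theorem isCov_iff {p : X ⟶ Y} : IsCov p ↔ (∃ (Z : Scheme.{u}) (q : Z ⟶ Y) (r : Z ⟶ X),
    r ≫ p = q ∧ Surjective q ∧ Flat q ∧ ∀ V : Y.Opens, IsAffineOpen V →
      ∃ W : Z.Opens, IsCompact (W : Set Z) ∧ q.base '' (W : Set Z) = (V : Set Y)) := by
  constructor
  · rintro ⟨Z, q, r, h, hq⟩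
    exact ⟨Z, q, r, h, hq.surj, hq.flat, hq.qc⟩
  · rintro ⟨Z, q, r, h, h1, h2, h3⟩
    exact ⟨Z, q, r, h, h2, h1, h3⟩

theorem IsFpqc.isCov {q : Z ⟶ Y} (hq : IsFpqc q) : IsCov q := ⟨Z, q, 𝟙 _, by simp, hq⟩

theorem IsCov.surjective {p : X ⟶ Y} (hp : IsCov p) : Surjective p := by
  obtain ⟨Z, q, r, rfl, hq⟩ := hp
  have := hq.surj
  exact Surjective.of_comp r p

theorem IsCov.epi {p : X ⟶ Y} (hp : IsCov p) : Epi p := by
  obtain ⟨Z, q, r, rfl, hq⟩ := hp
  have := hq.epi
  exact epi_of_epi r p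

theorem IsCov.of_comp {p : X ⟶ Y} {r : T ⟶ X} (h : IsCov (r ≫ p)) : IsCov p := by
  obtain ⟨Z, q, s, h, hq⟩ := h
  exact ⟨Z, q, s ≫ r, by simpa using h, hq⟩

theorem IsCov.of_isPullback {a : X' ⟶ X} {p' : X' ⟶ Y'} {p : X ⟶ Y} {b : Y' ⟶ Y}
    (h : IsPullback a p' p b) (hp : IsCov p) : IsCov p' := by
  obtain ⟨Z, q, r, rfl, hq⟩ := hp
  refine ⟨pullback (r ≫ p) b, pullback.snd (r ≫ p) b, h.lift (pullback.fst _ _ ≫ r)
    (pullback.snd _ _) (by rw [Category.assoc, pullback.condition]), by simp, hq.pullback_snd b⟩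

theorem IsCov.comp {p : T ⟶ X} {q : X ⟶ Y} (hp : IsCov p) (hq : IsCov q) : IsCov (p ≫ q) := by
  obtain ⟨Z, q', r, rfl, hq'⟩ := hq
  have h1 : IsCov (pullback.snd p r) := hp.of_isPullback (IsPullback.of_hasPullback p r)
  obtain ⟨Z', q'', r', h2, h3⟩ := h1
  refine ⟨Z', q'' ≫ r ≫ q, r' ≫ pullback.fst p r, ?_, h3.comp hq'⟩
  rw [← h2]
  simp only [Category.assoc]
  rw [pullback.condition_assoc]

theorem IsCov.pullback_fst {q : Z ⟶ Y} (hq : IsCov q) (g : X ⟶ Y) : IsCov (pullback.fst g q) :=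
  .of_isPullback (IsPullback.of_hasPullback g q).flip hq

theorem IsCov.pullback_snd {q : Z ⟶ Y} (hq : IsCov q) (g : X ⟶ Y) : IsCov (pullback.snd q g) :=
  .of_isPullback (IsPullback.of_hasPullback q g) hq

/-- Descent of morphisms along an fpqc covering morphism. -/
theorem IsCov.exists_desc {p : X ⟶ Y} (hp : IsCov p) (g : X ⟶ T)
    (h : ∀ {W : Scheme.{u}} (a b : W ⟶ X), a ≫ p = b ≫ p → a ≫ g = b ≫ g) :
    ∃ g' : Y ⟶ T, p ≫ g' = g := by
  obtain ⟨Z, q, r, rfl, hq⟩ := hp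
  obtain ⟨g', hg'⟩ := hq.exists_desc (r ≫ g) (by
    rw [← Category.assoc, ← Category.assoc]
    exact h _ _ (by simpa using pullback.condition (f := r ≫ p) (g := r ≫ p)))
  refine ⟨g', ?_⟩
  have hc : IsFpqc (pullback.fst p (r ≫ p)) := hq.pullback_fst p
  have := hc.epi
  rw [← cancel_epi (pullback.fst p (r ≫ p)), pullback.condition_assoc, hg', ← Category.assoc]
  refine (h _ _ ?_).symm
  rw [pullback.condition, Category.assoc]

/-- descent of properties along fpqc covering morphisms -/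
theorem IsCov.descends {P : MorphismProperty Scheme.{u}} [IsZariskiLocalAtTarget P]
    [P.IsStableUnderBaseChange] [P.DescendsAlong (@Surjective ⊓ @Flat ⊓ @QuasiCompact)]
    {a : X' ⟶ X} {p' : X' ⟶ Y'} {g : X ⟶ Y} {p : Y' ⟶ Y}
    (h : IsPullback a p' g p) (hp : IsCov p) (hp' : P p') : P g := by
  obtain ⟨Z, q, r, rfl, hq⟩ := hp
  have h1 : IsPullback (pullback.fst p' r) (pullback.snd p' r) p' r := IsPullback.of_hasPullback _ _
  exact hq.descends_of_isPullback (h1.paste_horiz h) (P.pullback_snd _ _ hp')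

end K206.Fpqc
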