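import Groth.Agent.SGA3.K206.WordLoc
import Groth.Agent.Ega43.ConsCrit
import Groth.Agent.Flat2D.GeomFib
import Groth.Agent.Flat2D.LfpComp
import Groth.Agent.Sga3B.DimFib
import Groth.Agent.S1339
import Groth.Agent.S1333
import Groth.Agent.S2575

/-!
# Local constructibility of the solvable and nilpotent loci
-/

set_option autoImplicit false
universe u
open CategoryTheory MonoidalCategory CartesianMonoidalCategory MonObj GrpObj AlgebraicGeometry
open CategoryTheory.Limits Topology
open Groth.Agent

namespace K206.WordCons

open Words WordLoc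

theorem isLocallyConstructible_of_forall_exists {S : Scheme.{u}} (E : Set S)
    (h : ∀ s : S, ∃ V : Set S, IsLocallyConstructible V ∧ s ∈ V ∧ IsLocallyConstructible (V ∩ E)) :
    IsLocallyConstructible E := by
  refine IsLocallyConstructible.of_isOpenCover (U := fun U : S.affineOpens => U.1)
    ?_ ?_
  · exact iSup_affineOpens_eq_top S
  · intro U
    have hU : IsAffineOpen U.1 := U.2
    have h1 : IsAffine (U.1 : Scheme.{u}) := hU
    have c1 : CompactSpace (U.1 : Scheme.{u}) := inferInstance
    have c2 : QuasiSober (U.1 : Scheme.{u}) := inferInstance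
    have c3 : PrespectralSpace (U.1 : Scheme.{u}) := inferInstance
    have c4 : QuasiSeparatedSpace (U.1 : Scheme.{u}) := inferInstance
    have c5 : IsOpenEmbedding (Subtype.val : (U.1 : Set S) → S) := U.1.isOpen.isOpenEmbedding_subtypeVal
    refine IsConstructible.isLocallyConstructible ?_
    refine @Ega43.ConsCrit.isConstructible_of_forall_exists (U.1 : Scheme.{u}) _ c1 c2 c3 c4 _ ?_
    intro x
    obtain ⟨V, hV1, hV2, hV3⟩ := h x.1
    refine ⟨(Subtype.val : (U.1 : Set S) → S) ⁻¹' V, ?_, hV2, ?_⟩
    · exact @IsLocallyConstructible.isConstructible (U.1 : Scheme.{u}) _ _ c3 c4 c1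
        (hV1.preimage_of_isOpenEmbedding c5)
    · exact @IsLocallyConstructible.isConstructible (U.1 : Scheme.{u}) _ _ c3 c4 c1
        (hV3.preimage_of_isOpenEmbedding c5)

theorem isIso_lift_iff {E P S F : Scheme.{u}} (k : E ⟶ P) (g : P ⟶ S) (x : F ⟶ S) [Mono k] :
    IsIso (pullback.lift (pullback.fst (k ≫ g) x ≫ k) (pullback.snd (k ≫ g) x)
      ((Category.assoc _ _ _).trans pullback.condition) : pullback (k ≫ g) x ⟶ pullback g x) ↔
      ∃ z : pullback g x ⟶ E, z ≫ k = pullback.fst g x := by
  set l : pullback (k ≫ g) x ⟶ pullback g x :=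
    pullback.lift (pullback.fst (k ≫ g) x ≫ k) (pullback.snd (k ≫ g) x)
      ((Category.assoc _ _ _).trans pullback.condition)
  have hl1 : l ≫ pullback.fst g x = pullback.fst (k ≫ g) x ≫ k := pullback.lift_fst _ _ _
  have hl2 : l ≫ pullback.snd g x = pullback.snd (k ≫ g) x := pullback.lift_snd _ _ _
  constructor
  · intro h
    refine ⟨inv l ≫ pullback.fst (k ≫ g) x, ?_⟩
    rw [Category.assoc, ← hl1, IsIso.inv_hom_id_assoc]
  · rintro ⟨z, hz⟩
    let m : pullback g x ⟶ pullback (k ≫ g) x :=
      pullback.lift z (pullback.snd g x) (by rw [reassoc_of% hz, pullback.condition])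
    have hm1 : m ≫ pullback.fst (k ≫ g) x = z := pullback.lift_fst _ _ _
    have hm2 : m ≫ pullback.snd (k ≫ g) x = pullback.snd g x := pullback.lift_snd _ _ _
    refine ⟨m, ?_, ?_⟩
    · apply pullback.hom_ext
      · rw [Category.assoc, hm1, ← cancel_mono k, Category.assoc, hz, hl1, Category.id_comp]
      · rw [Category.assoc, hm2, hl2, Category.id_comp]
    · apply pullback.hom_ext
      · rw [Category.assoc, hl1, reassoc_of% hm1, hz, Category.id_comp]
      · rw [Category.assoc, hl2, hm2, Category.id_comp]

section

variable {S : Scheme.{u}} (G : Over S) [GrpObj G]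

theorem counit_iff {P : Over S} (δ : P ⟶ G) {S' : Scheme.{u}} (φ : S' ⟶ S) :
    (Over.mapPullbackAdj φ).counit.app P ≫ δ = 1 ↔
      pullback.fst P.hom φ ≫ δ.left = pullback.fst P.hom φ ≫ (1 : P ⟶ G).left := by
  have hc : ((Over.mapPullbackAdj φ).counit.app P).left = pullback.fst P.hom φ := by simp
  constructor
  · intro h
    have h1 : (Over.mapPullbackAdj φ).counit.app P ≫ δ =
        (Over.mapPullbackAdj φ).counit.app P ≫ (1 : P ⟶ G) := by
      rw [MonObj.comp_one]; exact h
    have h2 := congrArg (fun f => f.left) h1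
    rw [← hc]
    exact h2
  · intro h
    rw [← MonObj.comp_one ((Over.mapPullbackAdj φ).counit.app P)]
    ext1
    rw [Over.comp_left, Over.comp_left, hc]
    exact h

theorem trivAt_comp_iff {P : Over S} (δ : P ⟶ G) {S' S'' : Scheme.{u}} (φ : S' ⟶ S) (ψ : S'' ⟶ S')
    (hψ : Fpqc.IsCov ψ) :
    pullback.fst P.hom (ψ ≫ φ) ≫ δ.left = pullback.fst P.hom (ψ ≫ φ) ≫ (1 : P ⟶ G).left ↔
      pullback.fst P.hom φ ≫ δ.left = pullback.fst P.hom φ ≫ (1 : P ⟶ G).left := by
  let q : pullback P.hom (ψ ≫ φ) ⟶ pullback P.hom φ :=
    pullback.lift (pullback.fst _ _) (pullback.snd _ _ ≫ ψ)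
      (by rw [pullback.condition, Category.assoc])
  have hq1 : q ≫ pullback.fst P.hom φ = pullback.fst P.hom (ψ ≫ φ) := pullback.lift_fst _ _ _
  have hq2 : q ≫ pullback.snd P.hom φ = pullback.snd P.hom (ψ ≫ φ) ≫ ψ := pullback.lift_snd _ _ _
  have hsq : IsPullback q (pullback.snd P.hom (ψ ≫ φ)) (pullback.snd P.hom φ) ψ := by
    refine IsPullback.of_right ?_ hq2 (IsPullback.of_hasPullback P.hom φ)
    rw [hq1]
    exact IsPullback.of_hasPullback _ _
  have hq : Epi q := (Fpqc.IsCov.of_isPullback hsq.flip hψ).epi
  rw [← hq1, Category.assoc, Category.assoc, cancel_epi]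

/-- The locus where a morphism `P ⟶ G` is trivial on the fibre is locally constructible. -/
theorem isLocallyConstructible_triv {P : Over S} [LocallyOfFinitePresentation P.hom]
    [QuasiCompact P.hom] [QuasiSeparated P.hom] [LocallyOfFinitePresentation G.hom]
    [QuasiSeparated G.hom]
    (δ : P ⟶ G) : IsLocallyConstructible (triv G δ) := by
  let k : equalizer δ.left (1 : P ⟶ G).left ⟶ P.left := equalizer.ι _ _
  have hsq : IsPullback k (k ≫ δ.left)
      (pullback.lift δ.left (1 : P ⟶ G).left (by rw [Over.w, Over.w])) (pullback.diagonal G.hom) := by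
    refine IsPullback.of_isLimit' ⟨?_⟩ ?_
    · apply pullback.hom_ext
      · rw [Category.assoc, Category.assoc, pullback.lift_fst, pullback.diagonal_fst,
          Category.comp_id]
      · rw [Category.assoc, Category.assoc, pullback.lift_snd, pullback.diagonal_snd,
          Category.comp_id]
        exact (equalizer.condition _ _).symm
    · have h1 : ∀ c : PullbackCone (pullback.lift δ.left (1 : P ⟶ G).left (by rw [Over.w, Over.w]))
          (pullback.diagonal G.hom), c.fst ≫ δ.left = c.snd := by
        intro c
        have := congrArg (fun f => f ≫ pullback.fst _ _) c.condition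
        rwa [Category.assoc, Category.assoc, pullback.lift_fst, pullback.diagonal_fst,
          Category.comp_id] at this
      have h2 : ∀ c : PullbackCone (pullback.lift δ.left (1 : P ⟶ G).left (by rw [Over.w, Over.w]))
          (pullback.diagonal G.hom), c.fst ≫ (1 : P ⟶ G).left = c.snd := by
        intro c
        have := congrArg (fun f => f ≫ pullback.snd _ _) c.condition
        rwa [Category.assoc, Category.assoc, pullback.lift_snd, pullback.diagonal_snd,
          Category.comp_id] at this
      refine PullbackCone.IsLimit.mk _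
        (fun c => equalizer.lift c.fst ((h1 c).trans (h2 c).symm)) ?_ ?_ ?_
      · intro c
        exact equalizer.lift_ι _ _
      · intro c
        exact (equalizer.lift_ι_assoc _ _ _).trans (h1 c)
      · intro c m hm1 hm2
        rw [← cancel_mono (equalizer.ι δ.left (1 : P ⟶ G).left), equalizer.lift_ι]
        exact hm1
  have hk1 : LocallyOfFinitePresentation k := by
    have : LocallyOfFinitePresentation (pullback.diagonal G.hom ≫ pullback.fst G.hom G.hom) := by
      rw [pullback.diagonal_fst]; infer_instance
    have : LocallyOfFinitePresentation (pullback.diagonal G.hom) :=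
      Flat2D.LfpComp.lfp_of_comp _ (pullback.fst G.hom G.hom)
    exact MorphismProperty.of_isPullback hsq.flip this
  have hk2 : QuasiCompact k := by
    have : QuasiCompact (pullback.diagonal G.hom) := inferInstance
    exact MorphismProperty.of_isPullback hsq.flip this
  have h2 := S2575.result k P.hom
  convert h2 using 1
  ext s
  rw [Set.mem_setOf_eq, isIso_lift_iff]
  change (Over.mapPullbackAdj (Red.geomPt s)).counit.app P ≫ δ = 1 ↔ _
  rw [counit_iff]
  have hcov : Fpqc.IsCov (Spec.map (CommRingCat.ofHom
      (algebraMap (S.residueField s) (AlgebraicClosure (S.residueField s))))) :=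
    (Fpqc.IsFpqc.of_quasiCompact _).isCov
  have h3 := trivAt_comp_iff G δ (S.fromSpecResidueField s) _ hcov
  refine h3.trans ?_
  constructor
  · intro h
    exact ⟨equalizer.lift _ h, equalizer.lift_ι _ _⟩
  · rintro ⟨z, hz⟩
    rw [← hz, Category.assoc, Category.assoc, equalizer.condition]

/-- The common part: a property of the fibre which on the strata where the number of components and
the dimension are bounded is equivalent to the triviality of a word. -/
theorem isLocallyConstructible_of_bound [LocallyOfFinitePresentation G.hom] [QuasiCompact G.hom]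
    [QuasiSeparated G.hom] (hsm : ∀ s : S, Smooth (G.hom.fiberToSpecResidueField s))
    (E : Set S) (P : ℕ → Over S) (δ : ∀ n, P n ⟶ G)
    (hP1 : ∀ n, LocallyOfFinitePresentation (P n).hom) (hP2 : ∀ n, QuasiCompact (P n).hom)
    (hP3 : ∀ n, QuasiSeparated (P n).hom)
    (h1 : ∀ n, triv G (δ n) ⊆ E)
    (h2 : ∀ (s : S) (c d : ℕ), Smooth (Red.geomFibre s G).hom →
      ENat.card (_root_.ConnectedComponents (Red.geomFibre s G).left) ≤ c →
      topologicalKrullDim (Red.geomFibre s G).left ≤ d → s ∈ E → s ∈ triv G (δ (c + d))) :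
    IsLocallyConstructible E := by
  have hc : ∀ s : S, ENat.card (_root_.ConnectedComponents (Red.geomFibre s G).left) =
      MoreMor.nGeomConnComp G.hom s := by
    intro s
    have := Flat2D.GeomFib.nGeomConnComp_eq G.hom (Red.geomPt s) (pullback.fst _ _)
      (pullback.snd _ _) (IsPullback.of_hasPullback G.hom (Red.geomPt s))
    rw [show (Red.geomPt s) (IsLocalRing.closedPoint _) = s from
      Scheme.fromSpecResidueField_apply s _] at this
    exact this
  have hd : ∀ s : S, topologicalKrullDim (Red.geomFibre s G).left =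
      topologicalKrullDim ↑(G.hom.fiber s) := by
    intro s
    rw [Sga3B.DimFib.topologicalKrullDim_geomFibre]
    exact (IsHomeomorph.topologicalKrullDim_eq (G.hom.fiberHomeo s)
      (G.hom.fiberHomeo s).isHomeomorph).symm
  have hs : ∀ s : S, Smooth (Red.geomFibre s G).hom := by
    intro s
    have := hsm s
    let b : Spec (CommRingCat.of (AlgebraicClosure (S.residueField s))) ⟶ Spec (S.residueField s) :=
      Spec.map (CommRingCat.ofHom (algebraMap (S.residueField s) (AlgebraicClosure (S.residueField s))))
    have sq1 : IsPullback (pullback.fst G.hom (S.fromSpecResidueField s))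
        (pullback.snd G.hom (S.fromSpecResidueField s)) G.hom (S.fromSpecResidueField s) :=
      IsPullback.of_hasPullback _ _
    have sq2 : IsPullback (pullback.fst G.hom (Red.geomPt s)) (pullback.snd G.hom (Red.geomPt s))
        G.hom (Red.geomPt s) := IsPullback.of_hasPullback _ _
    have sq3 : IsPullback (sq1.lift (pullback.fst G.hom (Red.geomPt s))
        (pullback.snd G.hom (Red.geomPt s) ≫ b) (by rw [Category.assoc]; exact sq2.w))
        (pullback.snd G.hom (Red.geomPt s)) (pullback.snd G.hom (S.fromSpecResidueField s)) b := by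
      refine IsPullback.of_right (t := sq1) ?_ (by simp)
      rw [IsPullback.lift_fst]
      exact sq2
    exact MorphismProperty.of_isPullback (P := @Smooth) sq3 this
  have hbd : ∀ s : S, ∃ c d : ℕ, ENat.card (_root_.ConnectedComponents (Red.geomFibre s G).left) ≤ c ∧
      topologicalKrullDim (Red.geomFibre s G).left ≤ d := by
    intro s
    have := hs s
    have hqc : QuasiCompact (Red.geomFibre s G).hom :=
      inferInstanceAs (QuasiCompact (pullback.snd G.hom (Red.geomPt s)))
    obtain ⟨U, hsU, N, d, hb⟩ := Sga3.H782.LocBound.exists_bound (Red.geomFibre s G).hom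
      (IsLocalRing.closedPoint _)
    obtain ⟨hcov, hd⟩ := hb (AlgebraicClosure (S.residueField s)) (𝟙 _) (by
      rintro _ ⟨x, rfl⟩
      have : x = IsLocalRing.closedPoint _ := Subsingleton.elim _ _
      rw [this]; exact hsU)
    have e : ↥(Red.geomFibre s G).left ≃ₜ ↥(pullback (Red.geomFibre s G).hom (𝟙 _)) :=
      Scheme.homeoOfIso (asIso (pullback.fst (Red.geomFibre s G).hom (𝟙 _))).symm
    refine ⟨N, d, ?_, ?_⟩
    · exact card_connectedComponents_le_of_cov (hcov.of_isOpenEmbedding e.isOpenEmbedding)
    · rw [e.isHomeomorph.topologicalKrullDim_eq]; exact hd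
  refine isLocallyConstructible_of_forall_exists E fun s => ?_
  obtain ⟨c, d, hc', hd'⟩ := hbd s
  refine ⟨{t | MoreMor.nGeomConnComp G.hom t = MoreMor.nGeomConnComp G.hom s} ∩
    {t | topologicalKrullDim ↑(G.hom.fiber t) = topologicalKrullDim ↑(G.hom.fiber s)},
    (S1339.result G.hom _).inter (S1333.result G.hom _), ⟨rfl, rfl⟩, ?_⟩
  have := hP1 (c + d)
  have := hP2 (c + d)
  have := hP3 (c + d)
  convert ((S1339.result G.hom (MoreMor.nGeomConnComp G.hom s)).inter
    (S1333.result G.hom (topologicalKrullDim ↑(G.hom.fiber s)))).inter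
    (isLocallyConstructible_triv G (δ (c + d))) using 1
  ext t
  refine and_congr_right ?_
  rintro ⟨ht1, ht2⟩
  constructor
  · intro ht
    refine h2 t c d (hs t) ?_ ?_ ht
    · rw [hc, show MoreMor.nGeomConnComp G.hom t = _ from ht1, ← hc]; exact hc'
    · rw [hd, show topologicalKrullDim ↑(G.hom.fiber t) = _ from ht2, ← hd]; exact hd'
  · intro ht
    exact h1 _ ht

theorem isLocallyConstructible_solvable [LocallyOfFinitePresentation G.hom] [QuasiCompact G.hom]
    [QuasiSeparated G.hom] (hsm : ∀ s : S, Smooth (G.hom.fiberToSpecResidueField s)) :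
    IsLocallyConstructible {s : S | Red.IsSolvableGrp (Red.geomFibre s G)} := by
  refine isLocallyConstructible_of_bound G hsm _ (DObj G) (dWord G)
    (WordSch.prop_DObj G (P := @LocallyOfFinitePresentation) inferInstance)
    (WordSch.prop_DObj G (P := @QuasiCompact) inferInstance)
    (WordSch.prop_DObj G (P := @QuasiSeparated) inferInstance) ?_ ?_
  · intro n s hs
    exact ⟨n, (forall_derivedSeries_bc_iff (Red.geomPt s) G n).mpr hs⟩
  · intro s c d hsmooth hc hd hs
    exact (forall_derivedSeries_bc_iff (Red.geomPt s) G (c + d)).mp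
      (isSolvableGrp_bound (Red.geomFibre s G) hc hd hs)

theorem isLocallyConstructible_nilpotent [LocallyOfFinitePresentation G.hom] [QuasiCompact G.hom]
    [QuasiSeparated G.hom] (hsm : ∀ s : S, Smooth (G.hom.fiberToSpecResidueField s)) :
    IsLocallyConstructible {s : S | AGF.IsNilpotentGrp (Red.geomFibre s G)} := by
  refine isLocallyConstructible_of_bound G hsm _ (LObj G) (lWord G)
    (WordSch.prop_LObj G (P := @LocallyOfFinitePresentation) inferInstance)
    (WordSch.prop_LObj G (P := @QuasiCompact) inferInstance)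
    (WordSch.prop_LObj G (P := @QuasiSeparated) inferInstance) ?_ ?_
  · intro n s hs
    exact (isNilpotentGrp_iff _).mpr
      ⟨n, (forall_lowerCentralSeries_bc_iff (Red.geomPt s) G n).mpr hs⟩
  · intro s c d hsmooth hc hd hs
    exact (forall_lowerCentralSeries_bc_iff (Red.geomPt s) G (c + d)).mp
      (isNilpotentGrp_bound (Red.geomFibre s G) hc hd hs)

end

end K206.WordCons
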