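import Groth.Agent.SGA3.K206.QuotRed
import Groth.Agent.S0114
import Groth.Agent.S0115
import Groth.Agent.S4091
import Groth.Agent.S2807
import Groth.Agent.S9336

/-!
# fppf descent of properties along the source
-/

set_option autoImplicit false
universe v u
open CategoryTheory AlgebraicGeometry Limits

namespace K206.QuotTransfer

variable {X Y S : Scheme.{u}} (f : X ⟶ Y) (q : Y ⟶ S)

theorem formallyUnramified_of_fppf_comp [Surjective f] [Flat f] [LocallyOfFinitePresentation f]
    [LocallyOfFinitePresentation (f ≫ q)] [FormallyUnramified (f ≫ q)] : FormallyUnramified q := by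
  have h1 : LocallyOfFinitePresentation q := Groth.Agent.S0114.result f q
  have key : ∀ y : Y, ∃ V : Y.Opens, y ∈ V ∧ FormallyUnramified (V.ι ≫ q) := by
    intro y
    obtain ⟨x, rfl⟩ := f.surjective y
    exact Groth.Agent.S2807.result q (f ≫ q) f rfl x (Flat.stalkMap f x)
      ⟨⊤, trivial, MorphismProperty.comp_mem @FormallyUnramified _ _ inferInstance ‹_›⟩
  choose V hV hV' using key
  have hcov : ⨆ y, V y = ⊤ := by
    rw [eq_top_iff]
    intro y _
    exact TopologicalSpace.Opens.mem_iSup.mpr ⟨y, hV y⟩
  exact (IsZariskiLocalAtSource.iff_of_openCover (P := @FormallyUnramified)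
    (Y.openCoverOfIsOpenCover V hcov)).mpr hV'

theorem etale_of_fppf_comp [Surjective f] [Flat f] [LocallyOfFinitePresentation f]
    [Etale (f ≫ q)] : Etale q := by
  have h1 : LocallyOfFinitePresentation q := Groth.Agent.S0114.result f q
  have h2 : Smooth q := Groth.Agent.S0115.result f q
  have h3 := formallyUnramified_of_fppf_comp f q
  exact Etale.of_formallyUnramified_of_flat q

end K206.QuotTransfer
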