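import Groth.Agent.SGA3.K206.QuotR

/-!
# The fpqc quotient of a group scheme by a normal subgroup scheme is a group scheme
-/

set_option autoImplicit false
universe v u
open CategoryTheory MonoidalCategory CartesianMonoidalCategory MonObj GrpObj AlgebraicGeometry Limits
open K206.Fpqc K206.QuotCov K206.QuotR

namespace K206.QuotGrp

variable {S : Scheme.{u}} {G G' X : Over S} [GrpObj G] [GrpObj G'] {u : G' ⟶ G} {p : G ⟶ X}

/-- The quotient of a group scheme by a normal subgroup scheme is a group scheme. -/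
theorem exists_grpObj_quotient [IsMonHom u] (hc : IsCov p.left)
    (hp : IsPullback ((G ◁ u) ≫ μ[G]) (fst G G') p p) (hN : AlgGrp.IsNormalHom u) :
    ∃ _ : GrpObj X, IsMonHom p := by
  have hw : (G ◁ u) ≫ μ[G] ≫ p = fst G G' ≫ p := by rw [← Category.assoc]; exact hp.w
  obtain ⟨m, hm⟩ := exists_desc (isCov_tensorHom hc hc) (μ[G] ≫ p) (by
    intro T x y hxy
    have e1 : (x ≫ fst G G) ≫ p = (y ≫ fst G G) ≫ p := by
      have := congrArg (fun z => z ≫ fst X X) hxy
      simpa using this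
    have e2 : (x ≫ snd G G) ≫ p = (y ≫ snd G G) ≫ p := by
      have := congrArg (fun z => z ≫ snd X X) hxy
      simpa using this
    obtain ⟨c₁, h₁⟩ := exists_fac hp _ _ e1
    obtain ⟨c₂, h₂⟩ := exists_fac hp _ _ e2
    obtain ⟨n, hn⟩ := hN T (y ≫ snd G G)⁻¹ c₁
    have ex : x ≫ μ[G] = (x ≫ fst G G) * (x ≫ snd G G) := by
      rw [Hom.mul_def]; congr 1; ext1 <;> simp
    have ey : y ≫ μ[G] = (y ≫ fst G G) * (y ≫ snd G G) := by
      rw [Hom.mul_def]; congr 1; ext1 <;> simp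
    rw [← Category.assoc, ← Category.assoc, ex, ey, h₁, h₂]
    have e3 : (y ≫ fst G G) * (c₁ ≫ u) * ((y ≫ snd G G) * (c₂ ≫ u)) =
        ((y ≫ fst G G) * (y ≫ snd G G)) * ((n * c₂) ≫ u) := by
      rw [mul_comp, ← hn]
      group
    rw [e3, mul_comp_eq hw])
  obtain ⟨i, hi⟩ := exists_desc hc (ι[G] ≫ p) (by
    intro T x y hxy
    obtain ⟨c, h⟩ := exists_fac hp _ _ hxy
    obtain ⟨n, hn⟩ := hN T y c⁻¹
    have ex : x ≫ ι[G] = x⁻¹ := rfl
    have ey : y ≫ ι[G] = y⁻¹ := rfl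
    rw [← Category.assoc, ← Category.assoc, ex, ey, h]
    have e3 : (y * (c ≫ u))⁻¹ = y⁻¹ * (n ≫ u) := by
      rw [← hn, inv_comp]
      group
    rw [e3, mul_comp_eq hw])
  have := epi_of_isCov hc
  have := epi_of_isCov (isCov_tensorHom (isCov_id (X := 𝟙_ (Over S))) hc)
  have := epi_of_isCov (isCov_tensorHom hc (isCov_id (X := 𝟙_ (Over S))))
  have := epi_of_isCov (isCov_tensorHom (isCov_tensorHom hc hc) hc)
  obtain ⟨g, hg, -⟩ := Groth.Agent.Sga3C.QuotGrpObj.exists_grpObj p m hm i hi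
    (fun _ _ => (cancel_epi _).mp) (fun _ _ => (cancel_epi _).mp)
    (fun _ _ => (cancel_epi _).mp) (fun _ _ => (cancel_epi _).mp)
  exact ⟨g, hg⟩

end K206.QuotGrp
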