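import Groth.Agent.Sga3.H817.CentGen

/-!
# Generic representability of the transporter of two morphisms
-/

set_option autoImplicit false
universe u
open CategoryTheory MonoidalCategory CartesianMonoidalCategory MonObj GrpObj AlgebraicGeometry
  CategoryTheory.Limits
open Groth.Agent

namespace K206.GenTransp

open Sga3.H817.WeilProj Sga3.H817.CentRepProj Sga3.H817.GenericSpread Sga3B.CentRep
  Sga3.H817.CentGen Ega43.Locus Ega43.LocusAff Ega43.ResSysSch

theorem exists_transporter {S : Scheme.{u}} {G Q : Over S} [GrpObj G] (p q : Q ⟶ G)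
    (hQ : LocProj Q.hom) [IsClosedImmersion η[G].left] :
    ∃ (Z : Over S) (z : Z ⟶ G), IsClosedImmersion z.left ∧
      (∀ (T : Over S) (g : T ⟶ G), (∃ a : T ⟶ Z, a ≫ z = g) ↔
        ∀ (T' : Over S) (x : T' ⟶ T) (h : T' ⟶ Q),
          (x ≫ g) * (h ≫ p) * (x ≫ g)⁻¹ = h ≫ q) ∧
      (QuasiCompact Q.hom → LocallyOfFiniteType G.hom → LocallyOfFinitePresentation z.left) := by
  obtain ⟨Z, z, hz, huniv, hfp⟩ := exists_closed_map (X := G) (Q := Q) hQ
    (fst G Q * (snd G Q ≫ p) * (fst G Q)⁻¹ * (snd G Q ≫ q)⁻¹) η[G]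
  refine ⟨Z, z, hz, ?_, fun hq h => hfp hq locallyOfFinitePresentation_one⟩
  intro T g
  rw [huniv]
  refine forall_congr' fun T' => forall_congr' fun x => forall_congr' fun h => ?_
  have e : lift (x ≫ g) h ≫ (fst G Q * (snd G Q ≫ p) * (fst G Q)⁻¹ * (snd G Q ≫ q)⁻¹) =
      (x ≫ g) * (h ≫ p) * (x ≫ g)⁻¹ * (h ≫ q)⁻¹ := by
    simp only [MonObj.comp_mul, GrpObj.comp_inv, lift_fst, lift_snd_assoc]
  rw [e]
  constructor
  · rintro ⟨b, hb⟩
    have e2 : b ≫ η[G] = 1 := by rw [one_eq_one, MonObj.comp_one]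
    rw [e2, eq_comm, mul_inv_eq_one] at hb
    exact hb
  · intro h
    refine ⟨toUnit _, ?_⟩
    have e2 : toUnit T' ≫ η[G] = 1 := by rw [one_eq_one, MonObj.comp_one]
    rw [e2, eq_comm, mul_inv_eq_one]
    exact h

theorem main {S : Scheme.{u}} [IsIntegral S] (G Y : Over S) [GrpObj G]
    [LocallyOfFinitePresentation G.hom] [QuasiCompact G.hom] [QuasiSeparated G.hom]
    [LocallyOfFinitePresentation Y.hom] [QuasiCompact Y.hom] [QuasiSeparated Y.hom] (u v : Y ⟶ G) :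
    ∃ U : S.Opens, (U : Set S).Nonempty ∧
      ∃ (T : Over (U : Scheme.{u})) (t : T ⟶ Red.bc U.ι G), IsClosedImmersion t.left ∧
        LocallyOfFinitePresentation T.hom ∧ QuasiCompact T.hom ∧ QuasiSeparated T.hom ∧
        ∀ (S' : Over (U : Scheme.{u})) (g : S' ⟶ Red.bc U.ι G), (∃ z : S' ⟶ T, z ≫ t = g) ↔
          ∀ (S'' : Over (U : Scheme.{u})) (s : S'' ⟶ S') (y : S'' ⟶ Red.bc U.ι Y),
            (s ≫ g) * (y ≫ (Over.pullback U.ι).map u) * (s ≫ g)⁻¹ = y ≫ (Over.pullback U.ι).map v := by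
  obtain ⟨U₂, hU₂, h2⟩ := exists_open_one G
  obtain ⟨U₃, hU₃, h3⟩ := exists_open_locProj Y.hom
  let U : S.Opens := U₂ ⊓ U₃
  have hUg : genericPoint S ∈ U := ⟨hU₂, hU₃⟩
  have e2 : U ≤ U₂ := inf_le_left
  have e3 : U ≤ U₃ := inf_le_right
  have k2 : IsClosedImmersion (η[Red.bc U.ι G] : 𝟙_ (Over (U : Scheme.{u})) ⟶ Red.bc U.ι G).left :=
    (isClosedImmersion_one_iff U.ι G).2
      ((iff_bcMap (P := @IsClosedImmersion) U.ι η[G]).2 (bcMap_of_le (P := @IsClosedImmersion) e2 h2))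
  have k3 : LocProj (Red.bc U.ι Y).hom := by
    have hp : IsPullback (pullback.fst Y.hom U₃.ι) (pullback.snd Y.hom U₃.ι) Y.hom U₃.ι :=
      IsPullback.of_hasPullback _ _
    have hq : IsPullback (pullback.fst Y.hom U.ι) (pullback.snd Y.hom U.ι) Y.hom
        (S.homOfLE e3 ≫ U₃.ι) := by
      rw [S.homOfLE_ι e3]
      exact IsPullback.of_hasPullback _ _
    have hq' : IsPullback (pullback.lift (pullback.fst Y.hom U.ι) (pullback.snd Y.hom U.ι ≫ S.homOfLE e3)
        (by rw [hq.w, Category.assoc])) (pullback.snd Y.hom U.ι) (pullback.snd Y.hom U₃.ι)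
        (S.homOfLE e3) := by
      refine IsPullback.of_right (h₁₂ := pullback.fst Y.hom U₃.ι) (v₁₃ := Y.hom) (h₂₂ := U₃.ι) ?_ ?_ hp
      · rw [pullback.lift_fst]
        exact hq
      · rw [pullback.lift_snd]
    exact h3.of_isPullback hq'
  have l1 : LocallyOfFinitePresentation (Red.bc U.ι G).hom :=
    inferInstanceAs (LocallyOfFinitePresentation (pullback.snd G.hom U.ι))
  have l2 : QuasiCompact (Red.bc U.ι G).hom :=
    inferInstanceAs (QuasiCompact (pullback.snd G.hom U.ι))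
  have l2' : QuasiSeparated (Red.bc U.ι G).hom :=
    inferInstanceAs (QuasiSeparated (pullback.snd G.hom U.ι))
  have l4 : QuasiCompact (Red.bc U.ι Y).hom :=
    inferInstanceAs (QuasiCompact (pullback.snd Y.hom U.ι))
  obtain ⟨T, t, ht, htu, htf⟩ := exists_transporter ((Over.pullback U.ι).map u)
    ((Over.pullback U.ι).map v) k3
  have m1 : LocallyOfFinitePresentation t.left := htf l4 inferInstance
  refine ⟨U, ⟨_, hUg⟩, T, t, ht, ?_, ?_, ?_, htu⟩
  · rw [← Over.w t]; infer_instance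
  · rw [← Over.w t]; infer_instance
  · rw [← Over.w t]; infer_instance

end K206.GenTransp
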